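import Cfsg.Agent.H348.Cov.MTwPerm
import Cfsg.Agent.H348.Cov.JThree
import Cfsg.Agent.H858.SidM12
import Cfsg.Agent.H180.KM11Cube
import Cfsg.Agent.CoThreeStd.M12.Out
import Cfsg.Agent.CoThreeStd.OutAut
import Cfsg.Agent.Schreier.MTwelve
import Cfsg.Agent.SmallSimple.SylowCount

/-!
# S2499 (normal 2-coverings): `M₁₂` (helper348)

Witnesses: `x` (11A), `z` (10A), `a` (8A), `b` (8B), `c` (3B). No proper subgroup meets the classes of `x` and `z`. A proper
subgroup which meets the classes of `x` or `z` and of `b` (respectively `a`) fixes a point or a pair of points of the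
dodecad (respectively of the complement), so that it does not meet the classes of `a` and `c` (respectively `b`, `c`).
-/

set_option autoImplicit false

namespace Cfsg.Agent.H348.Cov.MTw

open Subgroup Cfsg Cfsg.Agent.OrdDiv Cfsg.Agent.H278.Cov Cfsg.Agent.H257.El Cfsg.Agent.H257.Cov
open Cfsg.Agent.CoThreeStd.MTwelve (wd act act_spec enc_dec dec_enc enc_lt)

universe u

/-! ### the order -/

def n : ℕ := 95040
def l : List (ℕ × ℕ) := [(2, 6), (3, 3), (5, 1), (11, 1)]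

theorem chk11_10 : chkI n l 11 10 [.psl 2 11, .m11] = true := by decide +kernel

/-! ### the two actions -/

/-- the action on the dodecad -/
def φ₁ : Spor.M12 →* Equiv.Perm (Fin 12) := CoThreeStd.M12.rho

/-- the action on the complement -/
def φ₂ : Spor.M12 →* Equiv.Perm (Fin 12) := CoThreeStd.M12.rho.comp CoThreeStd.OutAut.alpha

theorem five₁ (t : Spor.M12) (s : Finset (Fin 12)) (hs : 5 ≤ s.card) (h : ∀ i ∈ s, φ₁ t i = i) : t = 1 := by
  have h1 : φ₁ t ∈ CoThreeStd.M12.G12 := by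
    rw [← CoThreeStd.M12.range_eq]
    exact ⟨t, rfl⟩
  have h2 := CoThreeStd.M12.Out.fix_five h1 s hs h
  exact CoThreeStd.M12.rho_injective (h2.trans (map_one _).symm)

theorem five₂ (t : Spor.M12) (s : Finset (Fin 12)) (hs : 5 ≤ s.card) (h : ∀ i ∈ s, φ₂ t i = i) : t = 1 := by
  have h1 : CoThreeStd.OutAut.alpha t = 1 := five₁ _ s hs h
  rw [← CoThreeStd.OutAut.alpha_alpha t, h1, map_one]

/-- the table of a word -/
def tab (w : List ℕ) (i : Fin 12) : Fin 12 :=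
  CoThreeStd.M12.dn (SporadicStructure.M11InvPerms.dec (act w (SporadicStructure.M11InvPerms.enc (CoThreeStd.M12.dp i))))

theorem phi_tab (w : List ℕ) (i : Fin 12) : φ₁ (wd w) i = tab w i := by
  show CoThreeStd.M12.dn ((wd w : Equiv.Perm GolayPt) (CoThreeStd.M12.dp i)) = _
  rw [tab, ← (act_spec w _ (enc_lt (CoThreeStd.M12.dp i))).1, dec_enc, dec_enc]

theorem phi_tab₂ (w : List ℕ) (i : Fin 12) : φ₂ (wd w) i = tab (CoThreeStd.OutAut.aw w) i := by
  show φ₁ (CoThreeStd.OutAut.alpha (wd w)) i = _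
  rw [CoThreeStd.OutAut.alpha_wd, phi_tab]

/-! ### cycle types from tables -/

theorem pow_tab {σ : Equiv.Perm (Fin 12)} {t : Fin 12 → Fin 12} (h : ∀ i, σ i = t i) (j : ℕ) (c : Fin 12) :
    (σ ^ j) c = t^[j] c := by
  rw [← Equiv.Perm.iterate_eq_pow, show (⇑σ) = t from funext h]

theorem tyB_of {σ : Equiv.Perm (Fin 12)} {t : Fin 12 → Fin 12} (h : ∀ i, σ i = t i) (f g a b : Fin 12)
    (h1 : f ≠ g ∧ a ≠ b ∧ a ≠ f ∧ a ≠ g ∧ b ≠ f ∧ b ≠ g) (h2 : t f = f ∧ t g = g ∧ t a = b ∧ t b = a)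
    (h3 : ∀ c, c ≠ f → c ≠ g → c ≠ a → c ≠ b → ∀ j < 8, t^[2 * j] c = c → j = 0 ∨ j = 4)
    (h4 : ∀ c, c ≠ f → c ≠ g → c ≠ a → c ≠ b → ∀ c', c' ≠ f → c' ≠ g → c' ≠ a → c' ≠ b → ∃ j < 8, t^[j] c = c') :
    TyB σ := by
  refine ⟨f, g, a, b, h1, by rw [h, h, h, h]; exact h2, ?_, ?_⟩
  · intro c c1 c2 c3 c4 j hj hc
    rw [pow_tab h] at hc
    exact h3 c c1 c2 c3 c4 j hj hc
  · intro c c1 c2 c3 c4 c' c1' c2' c3' c4'
    obtain ⟨j, hj, hc⟩ := h4 c c1 c2 c3 c4 c' c1' c2' c3' c4'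
    exact ⟨j, hj, by rw [pow_tab h, hc]⟩

theorem tyZ_of {σ : Equiv.Perm (Fin 12)} {t : Fin 12 → Fin 12} (h : ∀ i, σ i = t i) (d e : Fin 12)
    (h1 : d ≠ e ∧ t d = e ∧ t e = d)
    (h2 : ∀ c, c ≠ d → c ≠ e → ∀ c', c' ≠ d → c' ≠ e → ∃ j < 10, t^[j] c = c')
    (h3 : ∀ c, c ≠ d → c ≠ e → ∀ i < 5, ∀ j < 5, t^[2 * i] c = t^[2 * j] c → i = j) : TyZ σ := by
  refine ⟨d, e, h1.1, by rw [h, h1.2.1], by rw [h, h1.2.2], ?_, ?_⟩
  · intro c c1 c2 c' c1' c2'
    obtain ⟨j, hj, hc⟩ := h2 c c1 c2 c' c1' c2'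
    exact ⟨j, hj, by rw [pow_tab h, hc]⟩
  · intro c c1 c2 i hi j hj hc
    rw [pow_tab h, pow_tab h] at hc
    exact h3 c c1 c2 i hi j hj hc

theorem tyX_of {σ : Equiv.Perm (Fin 12)} {t : Fin 12 → Fin 12} (h : ∀ i, σ i = t i) (d : Fin 12)
    (h1 : t d = d) (h2 : ∀ c, c ≠ d → ∀ c', c' ≠ d → ∃ j < 11, t^[j] c = c') : TyX σ := by
  refine ⟨d, by rw [h, h1], ?_⟩
  intro c c1 c' c1'
  obtain ⟨j, hj, hc⟩ := h2 c c1 c' c1'
  exact ⟨j, hj, by rw [pow_tab h, hc]⟩

/-- the square has no fixed points -/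
def Mv (σ : Equiv.Perm (Fin 12)) : Prop := ∀ d, (σ ^ 2) d ≠ d

theorem mv_of {σ : Equiv.Perm (Fin 12)} {t : Fin 12 → Fin 12} (h : ∀ i, σ i = t i) (h1 : ∀ d, t^[2] d ≠ d) : Mv σ := by
  intro d hd
  rw [pow_tab h] at hd
  exact h1 d hd

theorem Mv.conj {σ : Equiv.Perm (Fin 12)} (h : Mv σ) (τ : Equiv.Perm (Fin 12)) : Mv (τ * σ * τ⁻¹) := by
  intro d hd
  rw [conj_pow_apply] at hd
  apply h (τ⁻¹ d)
  rw [Equiv.Perm.eq_inv_iff_eq, hd]

/-! ### the witnesses -/

def wx : List ℕ := [0, 1, 2, 5]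
def wz : List ℕ := [1, 3, 5]
def wb : List ℕ := [2, 3, 5]
def wa : List ℕ := [1, 2, 5, 3]
def wc : List ℕ := [1, 2]

/-- a permutation given by a list -/
def ls (L : List (Fin 12)) (i : Fin 12) : Fin 12 := L.getD i 0

theorem tx₁ : ∀ i, tab wx i = ls [11, 3, 6, 10, 2, 5, 7, 9, 0, 8, 4, 1] i := by decide +kernel
theorem tz₁ : ∀ i, tab wz i = ls [4, 6, 1, 11, 8, 9, 5, 10, 3, 0, 7, 2] i := by decide +kernel
theorem tb₁ : ∀ i, tab wb i = ls [10, 11, 4, 2, 5, 7, 3, 1, 8, 9, 0, 6] i := by decide +kernel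
theorem ta₁ : ∀ i, tab wa i = ls [6, 3, 0, 11, 2, 7, 4, 10, 9, 5, 1, 8] i := by decide +kernel
theorem tc₁ : ∀ i, tab wc i = ls [7, 10, 11, 5, 1, 8, 2, 9, 3, 0, 4, 6] i := by decide +kernel
theorem tx₂ : ∀ i, tab (CoThreeStd.OutAut.aw wx) i = ls [11, 8, 2, 10, 1, 9, 4, 3, 5, 0, 6, 7] i := by decide +kernel
theorem tz₂ : ∀ i, tab (CoThreeStd.OutAut.aw wz) i = ls [4, 0, 8, 11, 2, 10, 7, 6, 9, 3, 1, 5] i := by decide +kernel
theorem tb₂ : ∀ i, tab (CoThreeStd.OutAut.aw wb) i = ls [10, 9, 5, 2, 6, 1, 0, 11, 7, 8, 4, 3] i := by decide +kernel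
theorem ta₂ : ∀ i, tab (CoThreeStd.OutAut.aw wa) i = ls [0, 1, 4, 10, 5, 3, 8, 11, 2, 6, 9, 7] i := by decide +kernel
theorem tc₂ : ∀ i, tab (CoThreeStd.OutAut.aw wc) i = ls [7, 10, 11, 5, 1, 8, 2, 9, 3, 0, 4, 6] i := by decide +kernel

theorem X₁ : TyX (φ₁ (wd wx)) :=
  tyX_of (fun i => (phi_tab wx i).trans (tx₁ i)) 5 (by decide +kernel) (by decide +kernel)

theorem X₂ : TyX (φ₂ (wd wx)) :=
  tyX_of (fun i => (phi_tab₂ wx i).trans (tx₂ i)) 2 (by decide +kernel) (by decide +kernel)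

theorem Z₁ : TyZ (φ₁ (wd wz)) :=
  tyZ_of (fun i => (phi_tab wz i).trans (tz₁ i)) 7 10 (by decide +kernel) (by decide +kernel) (by decide +kernel)

theorem Z₂ : TyZ (φ₂ (wd wz)) :=
  tyZ_of (fun i => (phi_tab₂ wz i).trans (tz₂ i)) 6 7 (by decide +kernel) (by decide +kernel) (by decide +kernel)

theorem B₁ : TyB (φ₁ (wd wb)) :=
  tyB_of (fun i => (phi_tab wb i).trans (tb₁ i)) 8 9 0 10 (by decide +kernel) (by decide +kernel) (by decide +kernel)
    (by decide +kernel)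

theorem B₂ : TyB (φ₂ (wd wa)) :=
  tyB_of (fun i => (phi_tab₂ wa i).trans (ta₂ i)) 0 1 7 11 (by decide +kernel) (by decide +kernel) (by decide +kernel)
    (by decide +kernel)

theorem Ma₁ : Mv (φ₁ (wd wa)) := mv_of (fun i => (phi_tab wa i).trans (ta₁ i)) (by decide +kernel)
theorem Mb₂ : Mv (φ₂ (wd wb)) := mv_of (fun i => (phi_tab₂ wb i).trans (tb₂ i)) (by decide +kernel)
theorem Mc₁ : Mv (φ₁ (wd wc)) := mv_of (fun i => (phi_tab wc i).trans (tc₁ i)) (by decide +kernel)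
theorem Mc₂ : Mv (φ₂ (wd wc)) := mv_of (fun i => (phi_tab₂ wc i).trans (tc₂ i)) (by decide +kernel)

/-! ### orders -/

open Cfsg.Agent.CoThreeStd.MTwelve (wd_eq wd_ne)
open Cfsg.Agent.H858.SidM12 (wd_rep card_c11 card_n11)

theorem ord_x : orderOf (wd wx) = 11 :=
  have : Fact (Nat.Prime 11) := ⟨by norm_num⟩
  orderOf_eq_prime (by rw [← wd_rep]; exact wd_eq (l' := []) (by decide +kernel))
    (wd_ne (l' := []) 0 (by norm_num) (by decide +kernel))

theorem ord_z : orderOf (wd wz) = 10 := by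
  refine orderOf_eq_of_pow_and_pow_div_prime (by norm_num)
    (by rw [← wd_rep]; exact wd_eq (l' := []) (by decide +kernel)) ?_
  intro p hp hd
  have hp10 : p ∈ Nat.divisors 10 := Nat.mem_divisors.2 ⟨hd, by norm_num⟩
  rw [show Nat.divisors 10 = {1, 2, 5, 10} by decide] at hp10
  simp only [Finset.mem_insert, Finset.mem_singleton] at hp10
  rcases hp10 with rfl | rfl | rfl | rfl
  · exact absurd hp (by norm_num)
  · rw [← wd_rep]
    exact wd_ne (l' := []) 0 (by norm_num) (by decide +kernel)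
  · rw [← wd_rep]
    exact wd_ne (l' := []) 0 (by norm_num) (by decide +kernel)
  · exact absurd hp (by norm_num)

theorem ord_b : orderOf (wd wb) = 2 ^ (2 + 1) :=
  have : Fact (Nat.Prime 2) := ⟨by norm_num⟩
  orderOf_eq_prime_pow (by rw [← wd_rep]; exact wd_ne (l' := []) 1 (by norm_num) (by decide +kernel))
    (by rw [← wd_rep]; exact wd_eq (l' := []) (by decide +kernel))

theorem ord_a : orderOf (wd wa) = 2 ^ (2 + 1) :=
  have : Fact (Nat.Prime 2) := ⟨by norm_num⟩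
  orderOf_eq_prime_pow (by rw [← wd_rep]; exact wd_ne (l' := []) 1 (by norm_num) (by decide +kernel))
    (by rw [← wd_rep]; exact wd_eq (l' := []) (by decide +kernel))

/-! ### subgroups of order divisible by `1056` -/

theorem num_1056 : ∀ k ∈ Nat.divisors 90, (96 * k % 11) ∣ 5 → 11 * (96 * k % 11) ∣ 1056 * k → k = 18 ∨ k = 90 := by
  decide +kernel

theorem num_mod : ∀ k ∈ Nat.divisors 90, 96 * k % 11 ≠ 0 := by decide +kernel

theorem no_1056 {R : Subgroup Spor.M12} (hR : R ≠ ⊤) (h : 1056 ∣ Nat.card R) : False := by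
  have hT : Nat.card Spor.M12 = 95040 := CoThreeStd.MTwelve.card_H
  have hfin : Finite Spor.M12 := Nat.finite_of_card_ne_zero (by rw [hT]; norm_num)
  have hs : IsSimpleGroup Spor.M12 := Schreier.MTwelve.isSimpleGroup
  obtain ⟨k, hk⟩ := h
  have h1 := R.card_mul_index
  rw [hT, hk] at h1
  have h2 : k * R.index = 90 := by
    apply Nat.eq_of_mul_eq_mul_left (show 0 < 1056 by norm_num)
    rw [← mul_assoc, h1]
  have hkd : k ∈ Nat.divisors 90 := Nat.mem_divisors.2 ⟨Dvd.intro _ h2, by norm_num⟩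
  have h11 : Fact (Nat.Prime 11) := ⟨by norm_num⟩
  obtain ⟨x, hx⟩ := exists_prime_orderOf_dvd_card' (G := R) 11 (by rw [hk]; exact ⟨96 * k, by ring⟩)
  have hx' : orderOf (x : Spor.M12) = 11 := by rw [Subgroup.orderOf_coe, hx]
  have hc : Nat.card (centralizer ({x} : Set R)) = 11 := by
    apply Nat.dvd_antisymm
    · rw [← card_c11 _ hx', ← Subgroup.card_map_of_injective (K := centralizer ({x} : Set R)) R.subtype_injective]
      apply Subgroup.card_dvd_of_le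
      rintro _ ⟨c, hc, rfl⟩
      rw [mem_centralizer_singleton_iff]
      exact congrArg Subtype.val (mem_centralizer_singleton_iff.1 hc)
    · rw [← hx]
      exact Subgroup.orderOf_dvd_natCard _ (mem_centralizer_singleton_iff.2 rfl)
  have hn := Cfsg.Agent.H217.Odm.norm_of_self_cent (G := R) (n := 96 * k) (r := 11) (by norm_num)
    (by rw [hk]; ring) (num_mod k hkd) hx hc
  have hn1 : 11 * (96 * k % 11) ∣ 1056 * k := by
    rw [← hn, ← hk]
    exact Subgroup.card_subgroup_dvd_card _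
  have hn2 : 11 * (96 * k % 11) ∣ 11 * 5 := by
    rw [← hn, ← card_n11 _ hx', ← Subgroup.card_map_of_injective
      (K := normalizer ((zpowers x : Subgroup R) : Set R)) R.subtype_injective]
    apply Subgroup.card_dvd_of_le
    rintro _ ⟨c, hc, rfl⟩
    have hc' := Subgroup.mem_normalizer_iff.1 hc
    have hmem : ∀ w : R, (w : Spor.M12) ∈ zpowers (x : Spor.M12) ↔ w ∈ zpowers x := by
      intro w
      constructor
      · rintro ⟨j, hj⟩
        refine ⟨j, Subtype.ext ?_⟩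
        rw [← hj]
        exact SubgroupClass.coe_zpow _ _
      · rintro ⟨j, rfl⟩
        exact ⟨j, (SubgroupClass.coe_zpow _ _).symm⟩
    have hle : zpowers (x : Spor.M12) ≤ R := zpowers_le.2 x.2
    rw [Subgroup.mem_normalizer_iff]
    intro w
    constructor
    · intro hw
      have h3 := (hc' ⟨w, hle hw⟩).1 ((hmem ⟨w, hle hw⟩).1 hw)
      exact (hmem _).2 h3
    · intro hw
      have h3 : w ∈ R := by
        have h4 := R.mul_mem (R.mul_mem (R.inv_mem c.2) (hle hw)) c.2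
        have h5 : (c : Spor.M12)⁻¹ * (R.subtype c * w * (R.subtype c)⁻¹) * c = w := by
          show (c : Spor.M12)⁻¹ * (c * w * (c : Spor.M12)⁻¹) * c = w
          group
        rwa [h5] at h4
      exact (hmem ⟨w, h3⟩).2 ((hc' ⟨w, h3⟩).2 ((hmem _).1 hw))
  rcases num_1056 k hkd (Nat.dvd_of_mul_dvd_mul_left (by norm_num) hn2) hn1 with rfl | rfl
  · have h3 : R.index = 5 := by omega
    have h4 := SmallSimple.SylowCount.card_dvd_factorial_index R hR
    rw [hT, h3] at h4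
    exact absurd (Nat.le_of_dvd (Nat.factorial_pos _) h4) (by decide)
  · apply hR
    rw [← Subgroup.index_eq_one]
    omega

/-! ### the theorem -/

theorem isol11 : Isol Spor.M12 11 := isol_of_cent (by norm_num) fun x hx => card_c11 x hx

theorem oinc (tab : OrderTable.{0}) (known : Known.{0}) : OInc Spor.M12 11 10 := by
  have hT : Nat.card Spor.M12 = n := CoThreeStd.MTwelve.card_H
  have hfin : Finite Spor.M12 := Nat.finite_of_card_ne_zero (by rw [hT]; decide)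
  refine oinc_of_chkI tab known [.psl 2 11, .m11] hT (by norm_num) isol11 chk11_10 ?_
  intro g hg X _ _ hX
  simp only [List.mem_cons, List.not_mem_nil, or_false] at hg
  rcases hg with rfl | rfl
  · exact JThree.no_of_mod (m := 10) (by norm_num : Nat.Prime 11) (by norm_num : 11 = 11 ^ 1) (by norm_num)
      (by decide) hX
  · intro x hx
    have h1 := Cfsg.Agent.H180.KM11.orders (L := X) hX x
    rw [hx] at h1
    revert h1
    decide

theorem map_conj (φ : Spor.M12 →* Equiv.Perm (Fin 12)) (g x : Spor.M12) :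
    φ (g * x * g⁻¹) = φ g * φ x * (φ g)⁻¹ := by
  rw [map_mul, map_mul, map_inv]

theorem ord_conj (g x : Spor.M12) : orderOf (g * x * g⁻¹) = orderOf x :=
  orderOf_injective (MulAut.conj g).toMonoidHom (MulAut.conj g).injective x

/-- a subgroup with a pair of points stabilised by all its elements avoids the elements whose square has no fixed
points -/
theorem av_of_pair {φ : Spor.M12 →* Equiv.Perm (Fin 12)} {R : Subgroup Spor.M12} (h : ∃ d, ∀ r ∈ R, (φ r ^ 2) d = d)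
    {m : Spor.M12} (hm : Mv (φ m)) : Av m R := by
  obtain ⟨d, hd⟩ := h
  intro g hg
  have h1 := hd _ hg
  rw [map_conj] at h1
  exact hm.conj (φ g) d h1

theorem eleven_case {φ : Spor.M12 →* Equiv.Perm (Fin 12)} {R : Subgroup Spor.M12} (hR : R ≠ ⊤) {x y : Spor.M12}
    (hX : TyX (φ x)) (hY : TyB (φ y)) (hy8 : orderOf y = 2 ^ (2 + 1)) (hx : ¬ Av x R) (hy : ¬ Av y R) :
    ∃ d, ∀ r ∈ R, (φ r ^ 2) d = d := by
  have hT : Nat.card Spor.M12 = 95040 := CoThreeStd.MTwelve.card_H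
  have hfin : Finite Spor.M12 := Nat.finite_of_card_ne_zero (by rw [hT]; norm_num)
  obtain ⟨g, hg⟩ := not_av hx
  obtain ⟨k, hk⟩ := not_av hy
  rcases fix_or φ hg (by rw [map_conj]; exact hX.conj _) hk (by rw [map_conj]; exact hY.conj _)
    (by rw [ord_conj, hy8]; norm_num) with ⟨d, hd⟩ | h
  · exact ⟨d, fun r hr => by rw [pow_two, Equiv.Perm.mul_apply, hd r hr, hd r hr]⟩
  · exact (no_1056 hR h).elim

theorem ten_case {φ : Spor.M12 →* Equiv.Perm (Fin 12)}
    (h5 : ∀ t : Spor.M12, ∀ s : Finset (Fin 12), 5 ≤ s.card → (∀ i ∈ s, φ t i = i) → t = 1)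
    {R : Subgroup Spor.M12} (h11 : ¬ 11 ∣ Nat.card R) {z y : Spor.M12}
    (hZ : TyZ (φ z)) (hY : TyB (φ y)) (hz : ¬ Av z R) (hy : ¬ Av y R) :
    ∃ d, ∀ r ∈ R, (φ r ^ 2) d = d := by
  have hT : Nat.card Spor.M12 = 95040 := CoThreeStd.MTwelve.card_H
  have hfin : Finite Spor.M12 := Nat.finite_of_card_ne_zero (by rw [hT]; norm_num)
  obtain ⟨g, hg⟩ := not_av hz
  obtain ⟨k, hk⟩ := not_av hy
  exact stab_pair φ h5 h11 hg (by rw [map_conj]; exact hZ.conj _) hk (by rw [map_conj]; exact hY.conj _)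

/-- a pair `H ∋ x`, `K ∋ z` -/
theorem key (hinc : OInc Spor.M12 11 10) {H K : Subgroup Spor.M12} (hH : H ≠ ⊤) (hK : K ≠ ⊤)
    (hx : ¬ Av (wd wx) H) (hz : ¬ Av (wd wz) K) : ∃ w : Spor.M12, Av w H ∧ Av w K := by
  have hT : Nat.card Spor.M12 = 95040 := CoThreeStd.MTwelve.card_H
  have hfin : Finite Spor.M12 := Nat.finite_of_card_ne_zero (by rw [hT]; norm_num)
  have h11 : ¬ 11 ∣ Nat.card K := by
    intro hd
    have : Fact (Nat.Prime 11) := ⟨by norm_num⟩
    obtain ⟨w, hw⟩ := exists_prime_orderOf_dvd_card' (G := K) 11 hd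
    obtain ⟨g, hg⟩ := not_av hz
    exact hinc K hK w w.2 _ hg (by rw [Subgroup.orderOf_coe, hw]) (by rw [ord_conj, ord_z])
  by_cases hb : Av (wd wb) K
  · by_cases hbH : Av (wd wb) H
    · exact ⟨_, hbH, hb⟩
    -- `b` in `H`: `H` fixes a point of the dodecad
    have h1 := eleven_case hH X₁ B₁ ord_b hx hbH
    by_cases ha : Av (wd wa) K
    · exact ⟨_, av_of_pair h1 Ma₁, ha⟩
    have h2 := ten_case five₂ h11 Z₂ B₂ hz ha
    exact ⟨_, av_of_pair h1 Mc₁, av_of_pair h2 Mc₂⟩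
  · -- `b` in `K`: `K` stabilises a pair of points of the dodecad
    have h1 := ten_case five₁ h11 Z₁ B₁ hz hb
    by_cases ha : Av (wd wa) H
    · exact ⟨_, ha, av_of_pair h1 Ma₁⟩
    have h2 := eleven_case hH X₂ B₂ ord_a hx ha
    exact ⟨_, av_of_pair h2 Mc₂, av_of_pair h1 Mc₁⟩

theorem noTwo_model (tab : OrderTable.{0}) (known : Known.{0}) : NoTwo Spor.M12 := by
  have hinc := oinc tab known
  intro H K hH hK
  have hxz := hinc.inc ord_x ord_z
  rcases hxz H hH with h1 | h1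
  · rcases hxz K hK with h2 | h2
    · exact ⟨_, h1, h2⟩
    · by_cases h3 : Av (wd wx) K
      · exact ⟨_, h1, h3⟩
      by_cases h4 : Av (wd wz) H
      · exact ⟨_, h4, h2⟩
      obtain ⟨w, hw1, hw2⟩ := key hinc hK hH h3 h4
      exact ⟨w, hw2, hw1⟩
  · rcases hxz K hK with h2 | h2
    · by_cases h3 : Av (wd wx) H
      · exact ⟨_, h3, h2⟩
      by_cases h4 : Av (wd wz) K
      · exact ⟨_, h1, h4⟩
      exact key hinc hH hK h3 h4
    · exact ⟨_, h1, h2⟩

theorem NoTwo.congr {G : Type*} {G' : Type*} [Group G] [Group G'] (h : NoTwo G) (e : G ≃* G') : NoTwo G' := by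
  intro H K hH hK
  have hne : ∀ L : Subgroup G', L ≠ ⊤ → L.comap e.toMonoidHom ≠ ⊤ := by
    intro L hL ht
    apply hL
    rw [eq_top_iff]
    intro w _
    have h3 : e.symm w ∈ L.comap e.toMonoidHom := by rw [ht]; trivial
    have h4 : e (e.symm w) ∈ L := h3
    rwa [e.apply_symm_apply] at h4
  obtain ⟨x, h1, h2⟩ := h _ _ (hne H hH) (hne K hK)
  refine ⟨e x, fun g hg => h1 (e.symm g) ?_, fun g hg => h2 (e.symm g) ?_⟩
  · change e (e.symm g * x * (e.symm g)⁻¹) ∈ H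
    rwa [map_mul, map_mul, map_inv, e.apply_symm_apply]
  · change e (e.symm g * x * (e.symm g)⁻¹) ∈ K
    rwa [map_mul, map_mul, map_inv, e.apply_symm_apply]

/-- **`M₁₂` is not covered by the conjugates of two proper subgroups** -/
theorem noTwo_m12 (tab : OrderTable.{0}) (known : Known.{0}) {T : Type u} [Group T] (h : Spor.IsoM12 T) : NoTwo T := by
  obtain ⟨e⟩ := h
  exact NoTwo.congr (noTwo_model tab known) e.symm

end Cfsg.Agent.H348.Cov.MTw
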